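import Cfsg.Agent.SporB.Fi23.Main
import Cfsg.Agent.J2Mult70.Central

/-!
# Transpositions of `Fi23` in a central extension (helper70)

The centraliser of a transposition is perfect, so a transposition has one lift up to the kernel
that is centralised by all lifts of its centraliser; this gives a conjugation-equivariant lift of the
whole class.
-/

set_option autoImplicit false
set_option maxRecDepth 100000

namespace Cfsg.Agent.Fi23Mult70

open Cfsg.Agent.CosetEnum Cfsg.Agent.CosetEnum.Fi23
open scoped commutatorElement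

universe u

/-- The presented group. -/
abbrev G : Type := Cfsg.Agent.CosetEnum.Fi23.pres.Gp

/-- The image of a word. -/
abbrev V (W : List ℕ) : G := evalWord Cfsg.Agent.CosetEnum.Fi23.pres.val W

theorem V_append (U W : List ℕ) : V (U ++ W) = V U * V W := evalWord_append _ _ _

theorem V_reverse (W : List ℕ) : V W.reverse = (V W)⁻¹ := inv_word W

theorem V_single (l : ℕ) : V [l] = pres.val l := mul_one _

/-- The base point of `z`. -/
def base : Fin Rep.tbl.n := rep.base

/-- The point of the transposition `b`. -/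
noncomputable def p1 : Fin Rep.tbl.n := (rep.hom nodup (V Rep.conjU))⁻¹ base

/-- The point to which an element moves the point of `b`. -/
noncomputable def pt (g : G) : Fin Rep.tbl.n := rep.hom nodup g p1

theorem z_central {g : G} (hg : g ∈ H) : Commute g z := by
  have hk : cov (⟨g, hg⟩ * ⟨z, z_mem⟩ * ⟨g, hg⟩⁻¹) = 1 := by
    rw [map_mul, map_mul, map_inv, cov_z]; group
  rcases ker_cases hk with h | h
  · have h1 : g * z * g⁻¹ = 1 := h
    rw [conj_eq_one_iff] at h1
    exact absurd h1 z_ne_one
  · have h1 : g * z * g⁻¹ = z := h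
    exact mul_inv_eq_iff_eq_mul.mp h1

theorem mem_H_of_fix {g : G} (h : rep.hom nodup g base = base) : g ∈ H := by
  rw [H_stab.1, InvPres.Rep.mem_stab]; exact h

theorem b_eq : (pres.val Rep.conjL : G) = (V Rep.conjU)⁻¹ * z * V Rep.conjU := by
  rw [z_conj]
  show _ = (V Rep.conjU)⁻¹ * (V Rep.conjU * pres.val Rep.conjL * (V Rep.conjU)⁻¹) * V Rep.conjU
  group

variable {E : Type u} [Group E] (σ : E →* G) (hs : Function.Surjective σ)
  (hc : σ.ker ≤ Subgroup.center E)

/-- A chosen lift of a word. -/
noncomputable def lift (W : List ℕ) : E := Function.surjInv hs (V W)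

theorem map_lift (W : List ℕ) : σ (lift σ hs W) = V W := Function.surjInv_eq hs _

/-- A lift of `z`. -/
noncomputable def zt : E := Function.surjInv hs z

theorem map_zt : σ (zt σ hs) = z := Function.surjInv_eq hs _

/-- The lift of `b`. -/
noncomputable def bt : E := (lift σ hs Rep.conjU)⁻¹ * zt σ hs * lift σ hs Rep.conjU

theorem map_bt : σ (bt σ hs) = V [1] := by
  rw [bt, map_mul, map_mul, map_inv, map_lift, map_zt, V_single, ← b_eq]
  rfl

include hc

theorem commute_zt {h : E} (hh : σ h ∈ H) : Commute (zt σ hs) h := by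
  have key : ∀ g ∈ commutator H, ∀ h : E, σ h = (g : G) → Commute (zt σ hs) h := by
    intro g hg
    rw [commutator_eq_closure] at hg
    induction hg using Subgroup.closure_induction with
    | mem x hx =>
      obtain ⟨a, b, rfl⟩ := hx
      intro h hh
      obtain ⟨u, hu⟩ := hs (a : G)
      obtain ⟨v, hv⟩ := hs (b : G)
      refine J2Mult70.commute_of_commutator σ hc (u := u) (v := v) ?_ ?_ ?_
      · rw [map_zt, hu]; exact (z_central a.2).symm
      · rw [map_zt, hv]; exact (z_central b.2).symm
      · rw [hu, hv, hh]; rfl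
    | one => exact fun h hh => (J2Mult70.central_of σ hc hh _).symm
    | mul a b _ _ iha ihb =>
      intro h hh
      obtain ⟨p, hp⟩ := hs (a : G)
      have hq : σ (p⁻¹ * h) = (b : G) := by rw [map_mul, map_inv, hp, hh]; simp
      have := (iha p hp).mul_right (ihb _ hq)
      rwa [mul_inv_cancel_left] at this
    | inv a _ iha =>
      intro h hh
      have := (iha h⁻¹ (by rw [map_inv, hh]; simp)).inv_right
      rwa [inv_inv] at this
  exact key ⟨σ h, hh⟩ (by rw [perfect]; trivial) h rfl

/-- Conjugates of the lift of `b` depend only on the point. -/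
theorem conj_bt {u v : E} (h : pt (σ u) = pt (σ v)) :
    u * bt σ hs * u⁻¹ = v * bt σ hs * v⁻¹ := by
  set a := lift σ hs Rep.conjU with ha
  have hH : σ ((u * a⁻¹)⁻¹ * (v * a⁻¹)) ∈ H := by
    refine mem_H_of_fix ?_
    simp only [map_mul, map_inv, ha, map_lift, Equiv.Perm.mul_apply,
      mul_inv_rev, inv_inv]
    show rep.hom nodup (V Rep.conjU) ((rep.hom nodup (σ u))⁻¹ (pt (σ v))) = base
    rw [← h]
    show rep.hom nodup (V Rep.conjU) ((rep.hom nodup (σ u))⁻¹ (rep.hom nodup (σ u) p1)) = base
    rw [← Equiv.Perm.mul_apply ((rep.hom nodup (σ u))⁻¹), inv_mul_cancel, Equiv.Perm.one_apply, p1,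
      ← Equiv.Perm.mul_apply, mul_inv_cancel, Equiv.Perm.one_apply]
  have hw := (commute_zt σ hs hc hH).eq
  set w := (u * a⁻¹)⁻¹ * (v * a⁻¹) with hwdef
  have hv : v * a⁻¹ = u * a⁻¹ * w := by rw [hwdef]; group
  calc u * bt σ hs * u⁻¹ = (u * a⁻¹) * zt σ hs * (u * a⁻¹)⁻¹ := by rw [bt, ← ha]; group
    _ = (u * a⁻¹) * (zt σ hs * w) * w⁻¹ * (u * a⁻¹)⁻¹ := by group
    _ = (v * a⁻¹) * zt σ hs * (v * a⁻¹)⁻¹ := by rw [hw, hv]; group
    _ = v * bt σ hs * v⁻¹ := by rw [bt, ← ha]; group

end Cfsg.Agent.Fi23Mult70
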