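import Mathlib

/-!
# Hurwitz rewriting certificates for the extra relators of `Fi23` (helper70)

`words` names transpositions by conjugating words (the first ten are the generators); the two step
lists rewrite the relator tuples to the empty tuple.
-/

set_option autoImplicit false
set_option maxRecDepth 100000

namespace Cfsg.Agent.Fi23Mult70.Data

def words0 : List (List ℕ) := [[1, 0], [], [1, 2], [2, 3, 1, 2], [3, 4, 2, 3, 1, 2], [4, 5, 3, 4, 2, 3, 1, 2], [5, 6, 4, 5, 3, 4, 2, 3, 1, 2], [6, 7, 5, 6, 4, 5, 3, 4, 2, 3, 1, 2], [3, 8, 2, 3, 1, 2], [8, 9, 3, 8, 2, 3, 1, 2], [2], [3, 2], [4, 3, 2], [5, 4, 3, 2], [8, 5, 4, 3, 2], [9, 8, 5, 4, 3, 2], [9, 3, 8, 5, 4, 3, 2], [9, 2, 3, 8, 5, 4, 3, 2], [9, 4, 2, 3, 8, 5, 4, 3, 2], [9, 3, 4, 2, 3, 8, 5, 4, 3,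 2], [8, 9, 3, 4, 2, 3, 8, 5, 4, 3, 2], [8, 9, 8, 3, 4, 2, 3, 8, 5, 4, 3, 2], [3, 8, 9, 8, 3, 4, 2, 3, 8, 5, 4, 3, 2], [2, 3, 8, 9, 8, 3, 4, 2, 3, 8, 5, 4, 3, 2], [1, 2, 3, 8, 9, 8, 3, 4, 2, 3, 8, 5, 4, 3, 2], [4, 1, 2, 3, 8, 9, 8, 3, 4, 2, 3, 8, 5, 4, 3, 2], [3, 4, 2, 3, 8, 9, 3, 4, 2, 3, 8, 5, 4, 3, 2], [4, 2, 3, 8, 9, 3, 4, 2, 3, 8, 5, 4, 3, 2], [4, 2, 3, 8, 9, 4, 2, 3, 8, 5, 4, 3, 2], [4, 3, 8, 9, 4, 2, 3, 8, 5, 4, 3, 2], [4, 3, 8, 9, 2, 3, 8, 5, 4, 3, 2], [3, 8, 9, 2, 3, 8, 5, 4, 3, 2], [3, 8, 9, 2, 3, 8, 4, 3, 2], [8, 9, 2, 3, 8, 4, 3, 2], [9, 2, 3, 8, 4, 3, 2], [2, 3, 8, 4, 3, 2], [3, 8, 4, 3, 2], [3, 8, 4, 3, 1, 2], [8, 4, 3, 1, 2], [8, 3, 1, 2], [3, 1, 2], [4, 2, 3, 1, 2], [5, 4, 2, 3, 1, 2], [5, 3, 4, 2, 3, 1, 2], [9, 3, 8, 2, 3, 1, 2], [8,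 2, 3, 1, 2], [8, 4, 2, 3, 1, 2], [9, 8, 4, 2, 3, 1, 2], [9, 8, 2, 3, 1, 2], [4, 3, 1, 2]]

def words1 : List (List ℕ) := [[5, 4, 3, 1, 2], [9, 8, 5, 4, 2, 3, 1, 2], [3, 8, 5, 4, 3, 1, 2], [9, 3, 8, 4, 3, 1, 2], [9, 8, 4, 3, 1, 2], [4, 3, 8, 5, 4, 3, 1, 2], [9, 8, 4, 3, 2], [8, 5, 4, 3, 1, 2], [9, 8, 3, 2], [3, 8, 5, 4, 3, 2], [3, 8, 9, 4, 3, 8, 5, 4, 3, 2], [8, 5, 4, 2, 3, 1, 2], [8, 9, 3, 8, 5, 4, 3, 1, 2], [8, 9, 4, 3, 8, 5, 4, 3, 2], [4, 3, 8, 9, 3, 4, 2, 3, 8, 5, 4, 3, 2], [5, 4, 3, 8, 9, 2, 3, 8, 4, 3, 2], [4, 3, 8, 5, 4, 3, 2], [8, 9, 4, 2, 3, 8, 5, 4, 3, 2], [9, 8, 3, 1, 2], [2, 3, 8, 9, 4, 3, 8, 5, 4, 3, 2], [4, 2, 3, 8, 5, 4, 3, 2], [9, 5, 3, 4, 2, 3, 8, 5, 6, 4, 5, 2, 3, 4, 1, 2, 3, 8, 9, 6, 5, 2, 3, 4, 1, 2, 3, 8, 7, 6, 5, 4, 3, 2, 0], [2,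 3, 8, 9, 5, 4, 3, 8, 6, 5, 2, 3, 4, 0, 1, 2, 3, 8, 9, 6, 5, 2, 3, 4, 1, 2, 3, 8, 7, 6, 5, 4, 3, 2, 0], [8, 9, 8, 3, 4, 0, 1, 2, 3, 8, 5, 6, 4, 5, 3, 4, 1, 2, 3, 8, 9, 6, 5, 3, 4, 1, 2, 3, 8, 7, 6, 5, 4, 3, 2, 0], [8, 9, 7, 6, 5, 4, 3, 8, 4, 5, 6, 3, 4, 5, 2, 3, 4, 1, 2, 3, 8, 9, 6, 5, 2, 3, 4, 1, 2, 3, 8, 7, 6, 5, 4, 3, 2, 0], [9, 3, 4, 2, 3, 8, 5, 6, 4, 5, 2, 3, 4, 1, 2, 3, 8, 9, 6, 5, 2, 3, 4, 1, 2, 3, 8, 7, 6, 5, 4, 3, 2, 0], [2, 3, 8, 9, 4, 3, 8, 6, 5, 2, 3, 4, 0, 1, 2, 3, 8, 9, 6, 5, 2, 3, 4, 1, 2, 3, 8, 7, 6, 5, 4, 3, 2, 0], [8, 6, 3, 4, 5, 2, 3, 4, 0, 1, 2, 3, 8, 9, 4, 5, 2, 3, 4, 1, 2, 3, 8, 7, 6, 5, 4, 3, 2, 0], [8, 9, 4, 3, 8, 5, 6, 4, 5, 2, 3, 4, 1, 2, 3, 8, 9, 8, 6, 4, 5, 2, 3, 4, 1, 2, 3, 8, 7, 6, 5, 4, 3, 2, 0], [4, 3, 8, 9, 1, 2, 3, 8,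 6, 4, 5, 2, 3, 4, 1, 2, 3, 8, 9, 6, 5, 3, 4, 1, 2, 3, 8, 7, 6, 5, 4, 3, 2, 0], [9, 8, 7, 6, 5, 3, 4, 2, 3, 8, 9, 4, 5, 3, 4, 1, 2, 3, 8, 7, 6, 5, 4, 3, 2, 0], [8, 9, 5, 3, 4, 1, 2, 3, 8, 5, 6, 4, 5, 2, 3, 4, 1, 2, 3, 8, 9, 6, 5, 4, 1, 2, 3, 8, 7, 6, 5, 4, 3, 2, 0], [8, 9, 3, 8, 6, 7, 5, 6, 3, 4, 5, 2, 3, 4, 1, 2, 3, 8, 9, 6, 4, 5, 2, 3, 4, 1, 2, 3, 8, 7, 6, 5, 4, 3, 2, 0], [7, 6, 5, 3, 4, 1, 2, 3, 8, 9, 4, 5, 3, 4, 2, 3, 8, 7, 6, 5, 4, 3, 2, 0], [7, 6, 5, 2, 3, 4, 1, 2, 3, 8, 9, 4, 5, 3, 4, 2, 3, 8, 7, 6, 5, 4, 3, 2, 0], [5, 4, 3, 8, 7, 6, 3, 4, 5, 2, 3, 4, 0, 1, 2, 3, 8, 9, 6, 5, 2, 3, 4, 1, 2, 3, 8, 7, 6, 5, 4, 3, 2, 0], [6, 5, 4, 2, 3, 8, 7, 5, 6, 3, 4, 5, 2, 3, 4, 1, 2, 3, 8, 9, 6, 5, 4, 1, 2, 3, 8, 7, 6, 5, 4, 3, 2, 0], [9, 2, 3, 8, 1, 2, 3, 4,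 0, 1, 2, 3, 8, 9, 6, 4, 5, 2, 3, 4, 1, 2, 3, 8, 7, 6, 5, 4, 3, 2, 0], [2, 3, 8, 7, 6, 4, 5, 2, 3, 4, 1, 2, 3, 8, 9, 8, 5, 6, 4, 5, 3, 4, 1, 2, 3, 8, 7, 6, 5, 4, 3, 2, 0], [9, 5, 4, 2, 3, 8, 7, 5, 6, 4, 5, 2, 3, 4, 0, 1, 2, 3, 8, 9, 6, 5, 2, 3, 4, 1, 2, 3, 8, 7, 6, 5, 4, 3, 2, 0], [4, 2, 3, 8, 9, 5, 4, 1, 2, 3, 8, 5, 6, 4, 5, 2, 3, 4, 1, 2, 3, 8, 9, 6, 5, 2, 3, 4, 1, 2, 3, 8, 7, 6, 5, 4, 3, 2, 0], [7, 5, 6, 4, 5, 3, 4, 0, 1, 2, 3, 8, 9, 6, 4, 5, 2, 3, 4, 1, 2, 3, 8, 7, 6, 5, 4, 3, 2, 0], [1, 2, 3, 8, 9, 4, 3, 8, 6, 5, 2, 3, 4, 1, 2, 3, 8, 9, 5, 2, 3, 4, 1, 2, 3, 8, 7, 6, 5, 4, 3, 2, 0], [6, 7, 5, 6, 4, 5, 3, 4, 2, 3, 8, 9, 5, 3, 4, 1, 2, 3, 8, 7, 6, 5, 4, 3, 2, 0], [1, 2, 3, 8, 9, 5, 4, 1, 2, 3, 8, 5, 6, 3, 4, 5, 2, 3, 4, 1, 2, 3, 8, 9, 6, 5, 3, 4, 1,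 2, 3, 8, 7, 6, 5, 4, 3, 2, 0], [9, 3, 8, 7, 5, 6, 4, 5, 3, 4, 2, 3, 8, 9, 4, 5, 2, 3, 4, 1, 2, 3, 8, 7, 6, 5, 4, 3, 2, 0], [8, 9, 6, 5, 4, 3, 8, 6, 3, 4, 5, 2, 3, 4, 1, 2, 3, 8, 9, 6, 4, 5, 2, 3, 4, 1, 2, 3, 8, 7, 6, 5, 4, 3, 2, 0], [3, 8, 9, 1, 2, 3, 8, 5, 6, 4, 5, 2, 3, 4, 0, 1, 2, 3, 8, 9, 6, 5, 2, 3, 4, 1, 2, 3, 8, 7, 6, 5, 4, 3, 2, 0], [9, 8, 4, 5, 2, 3, 4, 1, 2, 3, 8, 9, 5, 4, 1, 2, 3, 8, 7, 6, 5, 4, 3, 2, 0], [4, 2, 3, 8, 9, 5, 4, 2, 3, 8, 6, 7, 5, 6, 4, 5, 2, 3, 4, 1, 2, 3, 8, 9, 6, 5, 2, 3, 4, 1, 2, 3, 8, 7, 6, 5, 4, 3, 2, 0]]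

def words2 : List (List ℕ) := [[4, 1, 2, 3, 8, 7, 5, 6, 3, 4, 5, 2, 3, 4, 1, 2, 3, 8, 9, 6, 5, 3, 4, 1, 2, 3, 8, 7, 6, 5, 4, 3, 2, 0], [8, 7, 6, 4, 5, 3, 4, 0, 1, 2, 3, 8, 9, 6, 5, 2, 3, 4, 1, 2, 3, 8, 7, 6, 5, 4, 3, 2, 0], [3, 8, 5, 6, 4, 5, 3, 4, 2, 3, 8, 9, 3, 4, 1, 2, 3, 8, 7, 6, 5, 4, 3, 2, 0], [2, 3, 4, 0, 1, 2, 3, 8, 9, 5, 4, 2, 3, 8, 6, 7, 5, 6, 3, 4, 5, 2, 3, 4, 1, 2, 3, 8, 9, 6, 5, 2, 3, 4, 1, 2, 3, 8, 7, 6, 5, 4, 3, 2, 0], [8, 9, 8, 3, 4, 2, 3, 8, 5, 4, 3, 2, 0], [8, 9, 4, 3, 8, 5, 4, 3, 2, 0], [5, 2, 3, 4, 0, 1, 2, 3, 8, 9, 3, 4, 2, 3, 8, 4, 5, 6, 3, 4, 5, 2, 3, 4, 1, 2, 3, 8, 9, 8, 4, 5, 2, 3, 4, 1, 2, 3, 8, 7, 6, 5, 4, 3, 2, 0], [9, 5, 3, 4, 2, 3, 8, 5, 6, 3, 4, 5, 2, 3, 4, 1, 2, 3, 8, 9, 6, 5, 2, 3, 4, 1, 2, 3, 8, 7, 6, 5, 4, 3, 2, 0],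 [6, 5, 4, 3, 8, 9, 6, 5, 4, 1, 2, 3, 8, 7, 6, 5, 4, 3, 2, 0], [5, 3, 4, 2, 3, 8, 9, 8, 2, 3, 4, 1, 2, 3, 8, 7, 6, 5, 4, 3, 2, 0], [6, 5, 4, 3, 8, 9, 8, 6, 4, 5, 3, 4, 1, 2, 3, 8, 7, 6, 5, 4, 3, 2, 0], [2, 3, 8, 9, 4, 3, 8, 5, 6, 3, 4, 5, 2, 3, 4, 1, 2, 3, 8, 9, 5, 2, 3, 4, 1, 2, 3, 8, 7, 6, 5, 4, 3, 2, 0], [8, 4, 5, 3, 4, 1, 2, 3, 8, 9, 8, 6, 4, 5, 2, 3, 4, 1, 2, 3, 8, 7, 6, 5, 4, 3, 2, 0], [4, 2, 3, 8, 9, 6, 5, 3, 4, 2, 3, 8, 5, 6, 3, 4, 5, 2, 3, 4, 1, 2, 3, 8, 9, 5, 3, 4, 1, 2, 3, 8, 7, 6, 5, 4, 3, 2, 0], [4, 0, 1, 2, 3, 8, 9, 4, 2, 3, 8, 5, 6, 4, 5, 2, 3, 4, 0, 1, 2, 3, 8, 9, 8, 6, 5, 2, 3, 4, 1, 2, 3, 8, 7, 6, 5, 4, 3, 2, 0], [3, 4, 0, 1, 2, 3, 8, 9, 5, 4, 2, 3, 8, 6, 7, 5, 6, 3, 4, 5, 2, 3, 4, 1, 2, 3, 8, 9, 6, 5, 2, 3, 4, 1, 2, 3, 8, 7, 6, 5,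 4, 3, 2, 0], [5, 4, 3, 8, 9, 4, 2, 3, 8, 5, 6, 4, 5, 3, 4, 0, 1, 2, 3, 8, 9, 6, 5, 2, 3, 4, 1, 2, 3, 8, 7, 6, 5, 4, 3, 2, 0], [4, 0, 1, 2, 3, 8, 9, 4, 2, 3, 8, 5, 4, 3, 2], [1, 2, 3, 8, 9, 4, 3, 8, 7, 6, 5, 2, 3, 4, 1, 2, 3, 8, 9, 5, 2, 3, 4, 1, 2, 3, 8, 7, 6, 5, 4, 3, 2, 0], [5, 4, 2, 3, 8, 9, 3, 4, 2, 3, 8, 5, 4, 3, 2, 0], [9, 5, 4, 2, 3, 8, 7, 5, 6, 4, 5, 2, 3, 4, 1, 2, 3, 8, 9, 6, 5, 3, 4, 1, 2, 3, 8, 7, 6, 5, 4, 3, 2, 0], [9, 5, 4, 1, 2, 3, 8, 6, 4, 5, 2, 3, 4, 1, 2, 3, 8, 9, 8, 6, 5, 2, 3, 4, 1, 2, 3, 8, 7, 6, 5, 4, 3, 2, 0], [9, 5, 3, 4, 2, 3, 8, 5, 6, 3, 4, 5, 2, 3, 4, 1, 2, 3, 8, 9, 8, 6, 5, 2, 3, 4, 1, 2, 3, 8, 7, 6, 5, 4, 3, 2, 0], [2, 3, 8, 9, 6, 5, 2, 3, 4, 1, 2, 3, 8, 5, 6, 4, 5, 2, 3, 4, 1, 2, 3, 8, 9, 5, 2, 3, 4, 1, 2, 3, 8, 7, 6, 5,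 4, 3, 2, 0], [9, 3, 8, 6, 4, 5, 2, 3, 4, 1, 2, 3, 8, 9, 8, 6, 4, 5, 2, 3, 4, 1, 2, 3, 8, 7, 6, 5, 4, 3, 2, 0], [0], [2, 0], [3, 2, 0], [4, 3, 2, 0], [5, 4, 3, 2, 0], [8, 5, 4, 3, 2, 0], [8, 3, 2], [8, 4, 3, 2], [8, 4, 3, 2, 0], [8, 3, 2, 0]]

def words : List (List ℕ) :=
  [words0, words1, words2].flatten

def steps10 : List (ℕ × ℕ × ℕ) := [(0, 1, 0), (1, 0, 10), (1, 1, 11), (1, 2, 12), (1, 3, 13), (1, 4, 13), (1, 5, 14), (1, 6, 15), (1, 7, 16), (1, 8, 17), (1, 9, 17), (1, 10, 17), (1, 11, 18), (1, 12, 18), (1, 13, 19), (1, 14, 20), (1, 15, 21), (1, 16, 22), (1, 17, 23), (1, 18, 24), (1, 19, 24), (1, 20, 25), (1, 21, 26), (1, 22, 27), (1, 23, 28), (1, 24, 28), (1, 25, 28), (1, 26, 29), (1, 27, 29), (1, 28, 30), (1, 29, 31), (1, 30, 32), (1, 31, 33),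 (1, 32, 34), (1, 33, 35), (1, 34, 35), (1, 35, 36), (1, 36, 37), (1, 37, 38), (1, 38, 39), (1, 39, 39), (1, 40, 39), (1, 41, 40), (1, 42, 40), (1, 43, 2), (3, 44, 0), (0, 43, 0), (1, 0, 3), (3, 1, 0), (0, 42, 0)]

def steps11 : List (ℕ × ℕ × ℕ) := [(1, 0, 3), (3, 1, 0), (0, 35, 0), (1, 0, 1), (1, 1, 1), (1, 2, 1), (1, 3, 1), (1, 4, 1), (1, 5, 1), (3, 6, 0), (1, 0, 41), (1, 1, 42), (1, 2, 43), (1, 3, 43), (1, 4, 43), (1, 5, 5), (3, 6, 0), (0, 38, 0), (1, 0, 1), (1, 1, 1), (1, 2, 1), (1, 3, 1), (1, 4, 1), (1, 5, 1), (3, 6, 0), (1, 0, 41), (1, 1, 42), (1, 2, 43), (1, 3, 43), (1, 4, 43), (1, 5, 5), (3, 6, 0), (0, 35, 0), (1, 0, 9), (1, 1, 9), (1, 2, 9), (1, 3, 9), (1, 4, 9), (1, 5, 44), (1, 6, 8), (1, 7, 8), (1, 8, 45), (1, 9, 3), (1, 10, 3), (3, 11, 0),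 (0, 36, 0), (1, 0, 9), (1, 1, 9), (1, 2, 9), (1, 3, 9)]

def steps12 : List (ℕ × ℕ × ℕ) := [(1, 4, 9), (1, 5, 44), (1, 6, 8), (1, 7, 8), (1, 8, 45), (1, 9, 3), (1, 10, 3), (3, 11, 0), (0, 33, 0), (1, 0, 5), (1, 1, 5), (1, 2, 5), (1, 3, 5), (1, 4, 43), (1, 5, 4), (1, 6, 41), (1, 7, 46), (1, 8, 47), (1, 9, 48), (1, 10, 44), (1, 11, 9), (3, 12, 0), (0, 34, 0), (1, 0, 5), (1, 1, 5), (1, 2, 5), (1, 3, 5), (1, 4, 43), (1, 5, 4), (1, 6, 41), (1, 7, 46), (1, 8, 47), (1, 9, 48), (1, 10, 44), (1, 11, 9), (3, 12, 0), (1, 0, 45), (1, 1, 8), (1, 2, 8), (1, 3, 8), (1, 4, 8), (1, 5, 45), (1, 6, 3), (1, 7, 3), (1, 8, 41), (1, 9, 4), (1, 10, 4), (1, 11, 4), (1, 12, 4), (1, 13, 41)]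

def steps13 : List (ℕ × ℕ × ℕ) := [(1, 14, 3), (1, 15, 3), (3, 16, 0), (0, 32, 0), (1, 0, 45), (1, 1, 8), (1, 2, 8), (1, 3, 8), (1, 4, 8), (1, 5, 45), (1, 6, 3), (1, 7, 3), (1, 8, 41), (1, 9, 4), (1, 10, 4), (1, 11, 4), (1, 12, 4), (1, 13, 41), (1, 14, 3), (1, 15, 3), (3, 16, 0), (0, 31, 0), (1, 0, 4), (1, 1, 41), (1, 2, 49), (1, 3, 40), (1, 4, 40), (1, 5, 2), (1, 6, 2), (1, 7, 2), (1, 8, 2), (1, 9, 40), (1, 10, 39), (1, 11, 45), (1, 12, 45), (1, 13, 8), (1, 14, 8), (1, 15, 8), (3, 16, 0), (0, 30, 0), (1, 0, 4), (1, 1, 41), (1, 2, 49), (1, 3, 40), (1, 4, 40), (1, 5, 2), (1, 6, 2), (1, 7, 2), (1, 8, 2), (1, 9, 40)]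

def steps14 : List (ℕ × ℕ × ℕ) := [(1, 10, 39), (1, 11, 45), (1, 12, 45), (1, 13, 8), (1, 14, 8), (1, 15, 8), (3, 16, 0), (0, 29, 0), (1, 0, 45), (1, 1, 8), (1, 2, 8), (1, 3, 8), (1, 4, 8), (1, 5, 45), (1, 6, 3), (1, 7, 3), (1, 8, 41), (1, 9, 4), (1, 10, 4), (1, 11, 4), (1, 12, 4), (1, 13, 41), (1, 14, 3), (1, 15, 3), (1, 16, 3), (3, 17, 0), (0, 28, 0), (1, 0, 45), (1, 1, 8), (1, 2, 8), (1, 3, 8), (1, 4, 8), (1, 5, 45), (1, 6, 3), (1, 7, 3), (1, 8, 41), (1, 9, 4), (1, 10, 4), (1, 11, 4), (1, 12, 4), (1, 13, 41), (1, 14, 3), (1, 15, 3), (1, 16, 3), (3, 17, 0), (0, 21, 0), (1, 0, 5), (1, 1, 5), (1, 2, 5), (1, 3, 5)]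

def steps15 : List (ℕ × ℕ × ℕ) := [(1, 4, 5), (1, 5, 5), (1, 6, 5), (1, 7, 5), (1, 8, 5), (1, 9, 43), (1, 10, 4), (1, 11, 41), (1, 12, 46), (1, 13, 47), (1, 14, 48), (1, 15, 44), (1, 16, 9), (1, 17, 9), (1, 18, 9), (1, 19, 9), (1, 20, 9), (1, 21, 9), (3, 22, 0), (1, 0, 45), (1, 1, 48), (1, 2, 44), (1, 3, 44), (1, 4, 44), (1, 5, 9), (1, 6, 9), (1, 7, 9), (1, 8, 9), (1, 9, 9), (1, 10, 9), (1, 11, 44), (1, 12, 8), (1, 13, 8), (1, 14, 45), (1, 15, 3), (1, 16, 40), (1, 17, 11), (1, 18, 10), (1, 19, 10), (1, 20, 10), (1, 21, 1), (3, 22, 0), (0, 24, 0), (1, 0, 5), (1, 1, 5), (1, 2, 5), (1, 3, 5), (1, 4, 5), (1, 5, 5), (1, 6, 5)]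

def steps16 : List (ℕ × ℕ × ℕ) := [(1, 7, 5), (1, 8, 5), (1, 9, 43), (1, 10, 4), (1, 11, 41), (1, 12, 46), (1, 13, 47), (1, 14, 48), (1, 15, 44), (1, 16, 9), (1, 17, 9), (1, 18, 9), (1, 19, 9), (1, 20, 9), (1, 21, 9), (3, 22, 0), (1, 0, 45), (1, 1, 48), (1, 2, 44), (1, 3, 44), (1, 4, 44), (1, 5, 9), (1, 6, 9), (1, 7, 9), (1, 8, 9), (1, 9, 9), (1, 10, 9), (1, 11, 44), (1, 12, 8), (1, 13, 8), (1, 14, 45), (1, 15, 3), (1, 16, 40), (1, 17, 11), (1, 18, 10), (1, 19, 10), (1, 20, 10), (1, 21, 1), (3, 22, 0), (1, 8, 43), (2, 39, 2), (2, 11, 44), (2, 41, 3), (1, 5, 45), (1, 3, 10), (1, 38, 40), (2, 35, 44), (0, 36, 0), (1, 0, 8), (1, 1, 8)]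

def steps17 : List (ℕ × ℕ × ℕ) := [(1, 2, 39), (1, 3, 40), (1, 4, 2), (1, 5, 10), (1, 6, 10), (1, 7, 10), (1, 8, 1), (1, 9, 1), (1, 10, 1), (1, 11, 1), (1, 12, 1), (1, 13, 1), (3, 14, 0), (2, 27, 3), (2, 3, 45), (0, 1, 0), (1, 0, 3), (1, 1, 8), (3, 2, 0), (2, 1, 1), (1, 19, 8), (2, 11, 11), (0, 10, 0), (1, 0, 10), (3, 1, 0), (2, 37, 40), (1, 36, 5), (2, 20, 3), (1, 16, 40), (1, 25, 40), (0, 8, 0), (1, 0, 45), (1, 1, 3), (1, 2, 40), (1, 3, 2), (1, 4, 10), (1, 5, 10), (1, 6, 10), (1, 7, 11), (1, 8, 1), (1, 9, 1), (1, 10, 1), (1, 11, 1), (1, 12, 1), (1, 13, 10), (1, 14, 2), (1, 15, 2), (3, 16, 0), (1, 32, 11), (2, 17, 43)]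

def steps18 : List (ℕ × ℕ × ℕ) := [(1, 11, 3), (2, 21, 49), (1, 2, 40), (2, 16, 50), (2, 33, 2), (2, 25, 49), (0, 26, 0), (1, 0, 43), (1, 1, 43), (1, 2, 5), (1, 3, 5), (1, 4, 5), (1, 5, 5), (1, 6, 5), (1, 7, 5), (3, 8, 0), (1, 11, 41), (0, 11, 0), (1, 0, 4), (1, 1, 4), (1, 2, 41), (1, 3, 41), (1, 4, 41), (1, 5, 3), (1, 6, 3), (3, 7, 0), (1, 23, 37), (1, 1, 45), (2, 34, 48), (1, 33, 51), (2, 5, 43), (0, 33, 0), (1, 0, 43), (1, 1, 42), (1, 2, 5), (1, 3, 5), (1, 4, 5), (1, 5, 5), (1, 6, 5), (1, 7, 4), (3, 8, 0), (1, 22, 4), (1, 25, 52), (2, 12, 40), (1, 25, 37), (2, 29, 44), (0, 18, 0), (1, 0, 41), (1, 1, 47), (1, 2, 47)]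

def steps19 : List (ℕ × ℕ × ℕ) := [(1, 3, 47), (1, 4, 48), (1, 5, 53), (1, 6, 53), (1, 7, 9), (1, 8, 9), (1, 9, 9), (1, 10, 8), (3, 11, 0), (1, 5, 49), (1, 12, 2), (2, 10, 45), (1, 20, 1), (1, 1, 54), (2, 4, 55), (0, 5, 0), (1, 0, 40), (1, 1, 46), (1, 2, 38), (1, 3, 39), (1, 4, 2), (1, 5, 2), (1, 6, 2), (3, 7, 0), (2, 20, 1), (2, 20, 3), (1, 1, 37), (2, 3, 46), (1, 18, 9), (1, 27, 56), (2, 22, 57), (1, 18, 40), (2, 21, 14), (0, 22, 0), (1, 0, 1), (1, 1, 11), (1, 2, 10), (1, 3, 10), (1, 4, 2), (1, 5, 2), (1, 6, 2), (1, 7, 41), (1, 8, 49), (1, 9, 45), (1, 10, 4), (3, 11, 0), (0, 25, 0), (1, 0, 2), (1, 1, 2), (1, 2, 2)]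

def steps110 : List (ℕ × ℕ × ℕ) := [(1, 3, 3), (3, 4, 0), (1, 15, 4), (0, 15, 0), (1, 0, 3), (3, 1, 0), (2, 2, 50), (2, 11, 39), (2, 3, 11), (0, 4, 0), (3, 0, 0), (1, 19, 52), (0, 19, 0), (1, 0, 45), (1, 1, 45), (1, 2, 46), (1, 3, 41), (1, 4, 41), (1, 5, 4), (1, 6, 4), (1, 7, 38), (1, 8, 49), (3, 9, 0), (1, 3, 44), (1, 16, 58), (1, 2, 4), (2, 5, 59), (2, 13, 37), (1, 5, 14), (1, 6, 14), (2, 3, 44), (1, 17, 58), (1, 2, 8), (2, 8, 1), (1, 18, 56), (1, 6, 39), (2, 3, 4), (2, 16, 16), (1, 1, 58), (1, 1, 11), (2, 15, 60), (0, 16, 0), (1, 0, 36), (1, 1, 36), (1, 2, 36), (1, 3, 36), (1, 4, 36), (1, 5, 46), (1, 6, 45), (1, 7, 3)]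

def steps111 : List (ℕ × ℕ × ℕ) := [(3, 8, 0), (2, 1, 58), (1, 13, 61), (2, 7, 13), (1, 3, 31), (2, 2, 56), (0, 1, 0), (1, 0, 4), (3, 1, 0), (1, 9, 56), (2, 14, 11), (1, 5, 40), (0, 5, 0), (1, 0, 8), (1, 1, 8), (3, 2, 0), (1, 7, 11), (1, 4, 61), (2, 7, 11), (2, 4, 61), (1, 0, 11), (2, 12, 13), (1, 10, 62), (0, 7, 0), (1, 0, 11), (1, 1, 11), (3, 2, 0), (1, 8, 63), (1, 5, 40), (2, 0, 56), (2, 9, 64), (2, 2, 65), (2, 9, 37), (1, 5, 1), (1, 8, 61), (1, 4, 49), (1, 2, 13), (1, 8, 37), (2, 7, 55), (1, 8, 45), (1, 6, 66), (1, 1, 60), (2, 10, 27), (1, 2, 60), (1, 6, 1), (2, 0, 21), (1, 2, 13), (2, 5, 66), (1, 9, 45), (2, 5, 49)]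

def steps112 : List (ℕ × ℕ × ℕ) := [(1, 0, 62), (2, 8, 67), (2, 10, 30), (2, 1, 60), (1, 2, 65), (2, 4, 4), (2, 6, 55), (2, 8, 27), (1, 5, 40), (2, 10, 64), (2, 0, 60), (2, 8, 37), (2, 5, 40), (1, 0, 60), (1, 0, 56), (1, 5, 40), (2, 0, 56), (1, 1, 60), (2, 7, 37), (1, 2, 60), (1, 4, 52), (0, 11, 0), (1, 0, 55), (1, 1, 55), (1, 2, 55), (1, 3, 55), (3, 4, 0), (1, 5, 46), (1, 6, 13), (1, 8, 2), (2, 5, 66), (2, 7, 23), (0, 8, 0), (1, 0, 13), (1, 1, 13), (3, 2, 0), (2, 4, 66), (1, 0, 2), (2, 1, 65), (1, 4, 66), (1, 0, 26), (2, 1, 2), (2, 0, 2), (2, 2, 60), (1, 4, 52), (1, 5, 5), (1, 3, 26), (2, 5, 52), (1, 3, 66), (1, 4, 66)]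

def steps113 : List (ℕ × ℕ × ℕ) := [(1, 5, 66), (2, 6, 68), (1, 2, 60), (1, 5, 37), (1, 0, 2), (1, 6, 37), (1, 6, 66), (1, 4, 52), (1, 5, 5), (1, 1, 2), (2, 1, 2), (2, 2, 60), (2, 4, 37), (1, 6, 5), (1, 3, 15), (1, 5, 23), (2, 3, 26), (2, 3, 15), (1, 6, 23), (2, 6, 23), (1, 6, 23), (2, 5, 5), (1, 5, 5), (2, 0, 2), (2, 1, 60), (1, 1, 60), (2, 6, 23), (2, 0, 65), (1, 1, 69), (1, 2, 69), (1, 5, 68), (2, 4, 23), (2, 2, 69), (1, 0, 65), (2, 5, 68), (1, 1, 65), (1, 0, 2), (2, 5, 26), (1, 0, 60), (2, 3, 23), (1, 2, 65), (2, 1, 70), (2, 1, 23), (1, 2, 70), (1, 3, 70), (1, 5, 26), (4, 4, 71), (2, 7, 26), (2, 5, 72), (1, 5, 70)]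

def steps114 : List (ℕ × ℕ × ℕ) := [(2, 2, 52), (2, 0, 22), (1, 5, 72), (2, 8, 5), (2, 6, 73), (2, 5, 74), (1, 1, 2), (1, 6, 71), (2, 5, 72), (1, 4, 70), (2, 5, 73), (1, 8, 5), (2, 0, 52), (1, 8, 68), (2, 7, 75), (1, 0, 52), (1, 6, 76), (4, 9, 77), (1, 7, 76), (1, 4, 26), (2, 8, 78), (2, 2, 65), (4, 1, 79), (2, 7, 80), (1, 5, 81), (1, 2, 82), (1, 2, 79), (0, 10, 0), (1, 0, 77), (3, 1, 0), (1, 1, 60), (2, 6, 83), (2, 7, 84), (2, 4, 52), (0, 3, 0), (1, 0, 82), (3, 1, 0), (2, 5, 74), (1, 5, 71), (1, 8, 68), (1, 3, 85), (1, 6, 71), (2, 1, 2), (2, 4, 86), (2, 5, 87), (2, 0, 2), (2, 7, 88), (1, 8, 89), (1, 0, 2), (1, 4, 90)]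

def steps115 : List (ℕ × ℕ × ℕ) := [(2, 0, 2), (2, 1, 91), (1, 3, 92), (2, 3, 80), (1, 6, 93), (2, 4, 86), (2, 3, 94), (2, 7, 95), (2, 1, 83), (1, 5, 96), (1, 2, 97), (2, 4, 98), (1, 5, 99), (2, 4, 100), (2, 4, 96), (2, 8, 101), (2, 3, 96), (1, 2, 102), (1, 4, 103), (2, 1, 104), (2, 3, 105), (2, 7, 106), (1, 4, 107), (1, 6, 108), (2, 0, 104), (2, 0, 2), (2, 7, 109), (2, 6, 109), (2, 2, 110), (1, 3, 111), (1, 4, 112), (1, 2, 113), (1, 8, 108), (2, 8, 108), (1, 5, 114), (1, 0, 2), (1, 1, 115), (1, 2, 116), (1, 3, 109), (3, 4, 0), (1, 1, 110), (2, 2, 117), (1, 5, 99), (2, 0, 118), (1, 0, 113), (2, 6, 119), (1, 3, 120), (2, 3, 110), (1, 4, 86), (2, 0, 118)]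

def steps116 : List (ℕ × ℕ × ℕ) := [(2, 4, 114), (1, 3, 120), (2, 4, 121), (2, 0, 113), (2, 0, 104), (2, 6, 93), (1, 3, 122), (2, 2, 99), (1, 5, 123), (1, 2, 121), (1, 2, 99), (1, 0, 118), (2, 2, 117), (1, 6, 124), (0, 2, 0), (1, 0, 99), (1, 1, 99), (1, 2, 119), (3, 3, 0), (2, 4, 104), (1, 0, 114), (2, 1, 118), (2, 1, 93), (2, 0, 104), (0, 1, 0), (1, 0, 124), (3, 1, 0), (1, 0, 113), (3, 1, 0), (3, 0, 0)]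

def steps1 : List (ℕ × ℕ × ℕ) :=
  [steps10, steps11, steps12, steps13, steps14, steps15, steps16, steps17, steps18, steps19, steps110, steps111, steps112, steps113, steps114, steps115, steps116].flatten

def steps20 : List (ℕ × ℕ × ℕ) := [(1, 0, 125), (1, 1, 126), (1, 2, 127), (1, 3, 128), (1, 4, 129), (1, 5, 130), (1, 6, 14), (1, 7, 57), (1, 8, 61), (1, 9, 61), (1, 10, 61), (1, 11, 46), (1, 12, 41), (1, 13, 41), (1, 14, 41), (1, 15, 49), (1, 16, 49), (1, 17, 40), (1, 18, 40), (1, 19, 39), (1, 20, 39), (1, 21, 131), (1, 22, 131), (1, 23, 131), (1, 24, 132), (1, 25, 14), (1, 26, 13), (1, 27, 129), (1, 28, 129), (1, 29, 129), (1, 30, 129), (1, 31, 129), (1, 32, 128), (1, 33, 133), (1, 34, 132), (1, 35, 38), (1, 36, 46), (1, 37, 46), (1, 38, 45), (1,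 39, 45), (1, 40, 3), (1, 41, 3), (1, 42, 3), (1, 43, 40), (1, 44, 2), (1, 45, 2), (1, 46, 2), (1, 47, 2), (1, 48, 2), (1, 49, 10)]

def steps21 : List (ℕ × ℕ × ℕ) := [(1, 50, 1), (1, 51, 1), (1, 52, 1), (1, 53, 1), (1, 54, 1), (1, 55, 125), (1, 56, 0), (1, 57, 0), (1, 58, 0), (1, 59, 0), (1, 60, 0), (1, 61, 0), (3, 62, 0), (0, 34, 0), (1, 0, 125), (1, 1, 126), (1, 2, 127), (1, 3, 128), (1, 4, 129), (1, 5, 130), (1, 6, 14), (1, 7, 57), (1, 8, 61), (1, 9, 61), (1, 10, 61), (1, 11, 46), (1, 12, 41), (1, 13, 41), (1, 14, 41), (1, 15, 49), (1, 16, 49), (1, 17, 40), (1, 18, 40), (1, 19, 39), (1, 20, 39), (1, 21, 131), (1, 22, 131), (1, 23, 131), (1, 24, 132), (1, 25, 14), (1, 26, 13), (1, 27, 50), (1, 28, 42), (1, 29, 43), (1, 30, 5), (3, 31, 0), (0, 60,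 0), (1, 0, 125), (1, 1, 126), (1, 2, 127)]

def steps22 : List (ℕ × ℕ × ℕ) := [(1, 3, 128), (1, 4, 129), (1, 5, 130), (1, 6, 14), (1, 7, 57), (1, 8, 61), (1, 9, 61), (1, 10, 61), (1, 11, 46), (1, 12, 41), (1, 13, 41), (1, 14, 41), (1, 15, 49), (1, 16, 49), (1, 17, 40), (1, 18, 40), (1, 19, 39), (1, 20, 39), (1, 21, 131), (1, 22, 131), (1, 23, 131), (1, 24, 132), (1, 25, 14), (1, 26, 13), (1, 27, 50), (1, 28, 42), (1, 29, 43), (1, 30, 5), (3, 31, 0), (0, 32, 0), (1, 0, 125), (1, 1, 126), (1, 2, 127), (1, 3, 128), (1, 4, 129), (1, 5, 130), (1, 6, 14), (1, 7, 57), (1, 8, 61), (1, 9, 61), (1, 10, 61), (1, 11, 46), (1, 12, 41), (1, 13, 41), (1, 14, 41), (1, 15, 49), (1, 16, 49), (1, 17, 40), (1, 18, 40), (1, 19, 39)]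

def steps23 : List (ℕ × ℕ × ℕ) := [(1, 20, 39), (1, 21, 131), (1, 22, 131), (1, 23, 131), (1, 24, 132), (1, 25, 14), (1, 26, 13), (1, 27, 50), (1, 28, 42), (1, 29, 43), (1, 30, 5), (3, 31, 0), (0, 92, 0), (1, 0, 125), (1, 1, 126), (1, 2, 127), (1, 3, 128), (1, 4, 129), (1, 5, 130), (1, 6, 14), (1, 7, 57), (1, 8, 61), (1, 9, 61), (1, 10, 61), (1, 11, 46), (1, 12, 41), (1, 13, 41), (1, 14, 41), (1, 15, 49), (1, 16, 49), (1, 17, 40), (1, 18, 40), (1, 19, 39), (1, 20, 131), (1, 21, 131), (1, 22, 131), (1, 23, 132), (1, 24, 12), (1, 25, 49), (1, 26, 41), (1, 27, 4), (3, 28, 0), (0, 25, 0), (1, 0, 10), (1, 1, 11), (1, 2, 11), (1, 3, 131), (1, 4, 134), (1, 5, 134), (1, 6, 134)]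

def steps24 : List (ℕ × ℕ × ℕ) := [(1, 7, 134), (1, 8, 133), (1, 9, 130), (1, 10, 129), (1, 11, 13), (1, 12, 50), (1, 13, 42), (1, 14, 43), (1, 15, 5), (3, 16, 0), (0, 95, 0), (1, 0, 125), (1, 1, 126), (1, 2, 127), (1, 3, 128), (1, 4, 129), (1, 5, 130), (1, 6, 14), (1, 7, 57), (1, 8, 61), (1, 9, 61), (1, 10, 61), (1, 11, 46), (1, 12, 41), (1, 13, 41), (1, 14, 49), (1, 15, 49), (1, 16, 40), (1, 17, 39), (1, 18, 45), (1, 19, 8), (1, 20, 8), (3, 21, 0), (0, 18, 0), (1, 0, 40), (1, 1, 40), (1, 2, 40), (1, 3, 11), (1, 4, 11), (1, 5, 10), (1, 6, 10), (1, 7, 10), (1, 8, 10), (1, 9, 126), (1, 10, 126), (1, 11, 125), (1, 12, 125), (1, 13, 125), (1, 14, 125), (1, 15, 1)]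

def steps25 : List (ℕ × ℕ × ℕ) := [(3, 16, 0), (0, 11, 0), (1, 0, 40), (1, 1, 49), (1, 2, 38), (1, 3, 38), (1, 4, 46), (1, 5, 46), (1, 6, 45), (1, 7, 45), (1, 8, 3), (1, 9, 3), (1, 10, 40), (1, 11, 2), (1, 12, 2), (1, 13, 2), (1, 14, 2), (1, 15, 10), (1, 16, 1), (1, 17, 1), (1, 18, 1), (1, 19, 1), (1, 20, 1), (1, 21, 125), (1, 22, 0), (1, 23, 0), (1, 24, 0), (1, 25, 0), (1, 26, 0), (1, 27, 0), (3, 28, 0), (0, 8, 0), (1, 0, 8), (1, 1, 8), (1, 2, 45), (1, 3, 46), (1, 4, 41), (1, 5, 41), (1, 6, 41), (1, 7, 49), (1, 8, 49), (1, 9, 40), (1, 10, 40), (1, 11, 39), (1, 12, 39), (1, 13, 131), (1, 14, 131), (1, 15, 131), (1, 16, 132), (1, 17, 14)]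

def steps26 : List (ℕ × ℕ × ℕ) := [(1, 18, 13), (1, 19, 50), (1, 20, 42), (1, 21, 43), (1, 22, 5), (3, 23, 0), (0, 76, 0), (1, 0, 10), (1, 1, 11), (1, 2, 12), (1, 3, 13), (1, 4, 14), (1, 5, 57), (1, 6, 61), (1, 7, 61), (1, 8, 61), (1, 9, 42), (1, 10, 43), (1, 11, 4), (1, 12, 4), (1, 13, 4), (1, 14, 4), (1, 15, 41), (1, 16, 3), (1, 17, 3), (1, 18, 45), (1, 19, 45), (1, 20, 45), (1, 21, 8), (1, 22, 8), (3, 23, 0), (0, 21, 0), (1, 0, 41), (1, 1, 41), (1, 2, 49), (1, 3, 49), (1, 4, 40), (1, 5, 40), (1, 6, 11), (1, 7, 11), (1, 8, 10), (1, 9, 10), (1, 10, 10), (1, 11, 126), (1, 12, 126), (1, 13, 125), (1, 14, 125), (1, 15, 125), (1, 16, 125), (1, 17, 125)]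

def steps27 : List (ℕ × ℕ × ℕ) := [(1, 18, 1), (3, 19, 0), (0, 92, 0), (1, 0, 5), (1, 1, 5), (1, 2, 5), (1, 3, 5), (1, 4, 43), (1, 5, 4), (1, 6, 4), (1, 7, 4), (1, 8, 4), (3, 9, 0), (0, 99, 0), (1, 0, 3), (1, 1, 3), (1, 2, 40), (1, 3, 2), (1, 4, 2), (1, 5, 2), (1, 6, 2), (1, 7, 2), (1, 8, 10), (1, 9, 126), (1, 10, 125), (1, 11, 125), (1, 12, 125), (1, 13, 125), (1, 14, 0), (1, 15, 0), (1, 16, 0), (1, 17, 0), (1, 18, 0), (3, 19, 0), (0, 14, 0), (1, 0, 10), (1, 1, 11), (1, 2, 12), (1, 3, 132), (1, 4, 38), (1, 5, 46), (1, 6, 46), (1, 7, 45), (1, 8, 45), (1, 9, 3), (1, 10, 3), (1, 11, 40), (1, 12, 2), (1, 13, 2), (1, 14, 2)]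

def steps28 : List (ℕ × ℕ × ℕ) := [(1, 15, 2), (1, 16, 10), (1, 17, 1), (1, 18, 1), (1, 19, 1), (1, 20, 1), (3, 21, 0), (0, 81, 0), (1, 0, 8), (1, 1, 8), (1, 2, 8), (1, 3, 45), (1, 4, 46), (1, 5, 61), (1, 6, 42), (1, 7, 42), (1, 8, 42), (1, 9, 42), (1, 10, 50), (1, 11, 50), (1, 12, 50), (1, 13, 49), (1, 14, 41), (1, 15, 4), (3, 16, 0), (0, 15, 0), (1, 0, 45), (1, 1, 45), (1, 2, 39), (1, 3, 39), (1, 4, 38), (1, 5, 57), (1, 6, 50), (1, 7, 50), (1, 8, 42), (1, 9, 43), (1, 10, 5), (3, 11, 0), (0, 6, 0), (1, 0, 8), (1, 1, 8), (1, 2, 45), (1, 3, 46), (1, 4, 41), (1, 5, 41), (1, 6, 49), (1, 7, 49), (1, 8, 40), (1, 9, 39), (1, 10, 45)]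

def steps29 : List (ℕ × ℕ × ℕ) := [(1, 11, 8), (1, 12, 8), (3, 13, 0), (0, 59, 0), (1, 0, 0), (1, 1, 0), (1, 2, 0), (1, 3, 0), (1, 4, 0), (1, 5, 125), (1, 6, 126), (1, 7, 127), (1, 8, 128), (1, 9, 12), (1, 10, 49), (1, 11, 41), (1, 12, 4), (3, 13, 0), (0, 9, 0), (1, 0, 125), (1, 1, 126), (1, 2, 127), (1, 3, 127), (1, 4, 134), (1, 5, 131), (1, 6, 39), (1, 7, 39), (1, 8, 45), (1, 9, 8), (1, 10, 8), (1, 11, 8), (1, 12, 8), (3, 13, 0), (0, 5, 0), (1, 0, 125), (1, 1, 1), (1, 2, 10), (1, 3, 11), (1, 4, 12), (1, 5, 13), (1, 6, 13), (1, 7, 50), (1, 8, 42), (1, 9, 43), (1, 10, 5), (3, 11, 0), (0, 8, 0), (1, 0, 40), (1, 1, 49), (1, 2, 49)]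

def steps210 : List (ℕ × ℕ × ℕ) := [(1, 3, 41), (1, 4, 4), (3, 5, 0), (0, 4, 0), (1, 0, 45), (1, 1, 45), (1, 2, 39), (1, 3, 39), (1, 4, 38), (1, 5, 49), (1, 6, 41), (1, 7, 4), (3, 8, 0), (0, 69, 0), (1, 0, 0), (1, 1, 0), (1, 2, 0), (1, 3, 0), (1, 4, 0), (1, 5, 125), (1, 6, 125), (1, 7, 125), (1, 8, 1), (1, 9, 10), (1, 10, 10), (1, 11, 2), (3, 12, 0), (0, 8, 0), (1, 0, 0), (1, 1, 0), (1, 2, 125), (1, 3, 125), (1, 4, 125), (1, 5, 125), (1, 6, 126), (1, 7, 127), (1, 8, 11), (1, 9, 40), (1, 10, 3), (3, 11, 0), (0, 8, 0), (1, 0, 125), (1, 1, 126), (1, 2, 126), (1, 3, 126), (1, 4, 126), (1, 5, 10), (1, 6, 2), (3, 7, 0), (0, 5, 0)]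

def steps211 : List (ℕ × ℕ × ℕ) := [(1, 0, 125), (1, 1, 125), (1, 2, 125), (1, 3, 125), (1, 4, 125), (1, 5, 1), (3, 6, 0), (0, 5, 0), (1, 0, 0), (1, 1, 0), (1, 2, 0), (1, 3, 0), (1, 4, 0), (3, 5, 0), (0, 24, 0), (1, 0, 40), (1, 1, 49), (1, 2, 50), (1, 3, 57), (1, 4, 61), (1, 5, 61), (1, 6, 61), (1, 7, 46), (1, 8, 41), (1, 9, 41), (1, 10, 49), (1, 11, 49), (1, 12, 40), (1, 13, 11), (1, 14, 11), (1, 15, 10), (1, 16, 10), (1, 17, 10), (1, 18, 2), (3, 19, 0), (0, 60, 0), (1, 0, 8), (1, 1, 8), (1, 2, 45), (1, 3, 46), (1, 4, 61), (1, 5, 42), (1, 6, 42), (1, 7, 43), (1, 8, 5), (3, 9, 0), (0, 61, 0), (1, 0, 10), (1, 1, 11), (1, 2, 12)]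

def steps212 : List (ℕ × ℕ × ℕ) := [(1, 3, 13), (1, 4, 50), (1, 5, 42), (1, 6, 43), (1, 7, 5), (3, 8, 0), (0, 62, 0), (1, 0, 5), (1, 1, 5), (1, 2, 5), (1, 3, 43), (1, 4, 4), (1, 5, 4), (1, 6, 4), (1, 7, 41), (1, 8, 3), (1, 9, 45), (1, 10, 45), (1, 11, 8), (1, 12, 8), (3, 13, 0), (0, 8, 0), (1, 0, 4), (1, 1, 4), (1, 2, 41), (1, 3, 3), (1, 4, 40), (1, 5, 2), (1, 6, 2), (1, 7, 2), (1, 8, 2), (1, 9, 10), (1, 10, 1), (1, 11, 1), (1, 12, 1), (3, 13, 0), (0, 57, 0), (1, 0, 10), (1, 1, 11), (1, 2, 131), (1, 3, 39), (1, 4, 39), (1, 5, 38), (1, 6, 46), (1, 7, 46), (1, 8, 45), (1, 9, 45), (1, 10, 3), (1, 11, 3), (1, 12, 40)]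

def steps213 : List (ℕ × ℕ × ℕ) := [(1, 13, 2), (1, 14, 2), (3, 15, 0), (0, 10, 0), (1, 0, 8), (1, 1, 8), (1, 2, 45), (1, 3, 46), (1, 4, 46), (1, 5, 61), (1, 6, 42), (1, 7, 42), (1, 8, 43), (1, 9, 5), (3, 10, 0), (0, 36, 0), (1, 0, 8), (1, 1, 8), (1, 2, 45), (1, 3, 46), (1, 4, 41), (1, 5, 49), (1, 6, 49), (1, 7, 40), (1, 8, 40), (1, 9, 3), (3, 10, 0), (0, 9, 0), (1, 0, 2), (1, 1, 10), (1, 2, 11), (1, 3, 12), (1, 4, 12), (1, 5, 12), (1, 6, 11), (1, 7, 11), (1, 8, 40), (1, 9, 3), (3, 10, 0), (0, 6, 0), (1, 0, 43), (1, 1, 43), (1, 2, 43), (1, 3, 5), (1, 4, 5), (3, 5, 0), (0, 36, 0), (1, 0, 40), (1, 1, 49), (1, 2, 38)]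

def steps214 : List (ℕ × ℕ × ℕ) := [(1, 3, 46), (1, 4, 46), (1, 5, 45), (1, 6, 45), (1, 7, 3), (1, 8, 3), (3, 9, 0), (0, 5, 0), (1, 0, 43), (1, 1, 43), (1, 2, 43), (1, 3, 5), (1, 4, 5), (1, 5, 5), (3, 6, 0), (0, 33, 0), (1, 0, 43), (1, 1, 43), (1, 2, 43), (1, 3, 42), (1, 4, 42), (1, 5, 41), (1, 6, 41), (1, 7, 4), (3, 8, 0), (0, 40, 0), (1, 0, 5), (1, 1, 5), (1, 2, 5), (3, 3, 0), (0, 7, 0), (1, 0, 5), (1, 1, 5), (1, 2, 5), (1, 3, 5), (1, 4, 5), (3, 5, 0), (0, 1, 0), (1, 0, 45), (1, 1, 39), (1, 2, 39), (1, 3, 40), (1, 4, 11), (1, 5, 12), (1, 6, 12), (1, 7, 12), (1, 8, 49), (1, 9, 41), (1, 10, 3), (3, 11, 0)]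

def steps215 : List (ℕ × ℕ × ℕ) := [(0, 8, 0), (1, 0, 10), (1, 1, 10), (1, 2, 10), (1, 3, 2), (1, 4, 40), (1, 5, 49), (1, 6, 41), (1, 7, 41), (1, 8, 4), (3, 9, 0), (0, 1, 0), (1, 0, 4), (1, 1, 4), (1, 2, 41), (1, 3, 3), (1, 4, 40), (1, 5, 11), (1, 6, 10), (1, 7, 1), (1, 8, 1), (3, 9, 0), (0, 1, 0), (1, 0, 1), (1, 1, 1), (1, 2, 10), (1, 3, 2), (1, 4, 40), (1, 5, 3), (1, 6, 45), (1, 7, 8), (1, 8, 8), (3, 9, 0), (0, 5, 0), (1, 0, 2), (1, 1, 40), (1, 2, 49), (1, 3, 41), (1, 4, 4), (1, 5, 4), (1, 6, 4), (3, 7, 0), (0, 3, 0), (1, 0, 40), (1, 1, 11), (1, 2, 11), (1, 3, 131), (1, 4, 39), (1, 5, 39), (1, 6, 40)]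

def steps216 : List (ℕ × ℕ × ℕ) := [(1, 7, 3), (3, 8, 0), (0, 6, 0), (1, 0, 8), (1, 1, 8), (1, 2, 8), (3, 3, 0), (0, 24, 0), (1, 0, 1), (1, 1, 10), (1, 2, 10), (1, 3, 2), (3, 4, 0), (0, 3, 0), (1, 0, 1), (1, 1, 1), (3, 2, 0), (0, 10, 0), (1, 0, 1), (1, 1, 1), (1, 2, 1), (1, 3, 1), (1, 4, 1), (3, 5, 0), (0, 5, 0), (1, 0, 2), (1, 1, 40), (1, 2, 3), (1, 3, 41), (1, 4, 4), (1, 5, 4), (3, 6, 0), (0, 4, 0), (1, 0, 45), (1, 1, 39), (1, 2, 39), (1, 3, 45), (1, 4, 3), (3, 5, 0), (0, 3, 0), (1, 0, 2), (1, 1, 2), (3, 2, 0), (0, 9, 0), (1, 0, 2), (1, 1, 2), (3, 2, 0), (0, 3, 0), (1, 0, 8), (1, 1, 45)]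

def steps217 : List (ℕ × ℕ × ℕ) := [(1, 2, 3), (3, 3, 0), (0, 2, 0), (1, 0, 8), (1, 1, 45), (1, 2, 3), (3, 3, 0), (0, 2, 0), (1, 0, 8), (3, 1, 0), (1, 0, 41), (1, 1, 3), (3, 2, 0), (0, 1, 0), (3, 0, 0), (3, 0, 0)]

def steps2 : List (ℕ × ℕ × ℕ) :=
  [steps20, steps21, steps22, steps23, steps24, steps25, steps26, steps27, steps28, steps29, steps210, steps211, steps212, steps213, steps214, steps215, steps216, steps217].flatten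

end Cfsg.Agent.Fi23Mult70.Data
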