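import Cfsg.Agent.Fi23Mult70.Base
import Cfsg.Agent.Fi23Mult70.Data

/-!
# Rewriting tuples of transposition lifts (helper70)

A step moves a lift past a neighbour by conjugation, deletes or inserts a pair of equal lifts, or
rotates the tuple; each deletion contributes the common square of the lifts.
-/

set_option autoImplicit false
set_option maxRecDepth 100000

namespace Cfsg.Agent.Fi23Mult70

open Cfsg.Agent.CosetEnum Cfsg.Agent.CosetEnum.Fi23

universe u

/-- The numeral of `p1`. -/
noncomputable def q1 : ℕ := Rep.tbl.run Rep.conjU 0

/-- The word of a transposition. -/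
def tr (W : List ℕ) : List ℕ := W ++ [1] ++ W.reverse

/-- Two words move `p1` to the same point. -/
noncomputable def same (A B : List ℕ) : Bool :=
  A.all (fun l => Nat.blt l 10) && B.all (fun l => Nat.blt l 10) &&
    Nat.beq (Rep.tbl.run A.reverse q1) (Rep.tbl.run B.reverse q1)

theorem p1_val : (p1 : ℕ) = q1 := by
  rw [p1, rep.hom_inv_apply nodup (W := Rep.conjU) (by decide) base]; rfl

theorem pt_val {A : List ℕ} (hA : A.all (fun l => Nat.blt l 10) = true) :
    (pt (V A) : ℕ) = Rep.tbl.run A.reverse q1 := by
  have h : rep.hom nodup (V A) = (rep.hom nodup (V A.reverse))⁻¹ := by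
    rw [V_reverse, map_inv, inv_inv]
  show ((rep.hom nodup (V A) p1 : Fin Rep.tbl.n) : ℕ) = _
  rw [h, rep.hom_inv_apply nodup (W := A.reverse)
    (fun l hl => Nat.le_of_ble_eq_true (List.all_eq_true.mp hA l (List.mem_reverse.mp hl))) p1,
    p1_val]

theorem same_spec {A B : List ℕ} (h : same A B = true) : pt (V A) = pt (V B) := by
  rw [same, Bool.and_eq_true, Bool.and_eq_true] at h
  refine Fin.ext ?_
  rw [pt_val h.1.1, pt_val h.1.2]
  exact Nat.eq_of_beq_eq_true h.2

/-- The word with the given number. -/
def word (i : ℕ) : List ℕ := Data.words.getD i []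

/-- Check a rewriting of a tuple to the empty one; steps are (kind, position, new number). -/
noncomputable def check : List (ℕ × ℕ × ℕ) → List ℕ → Bool
  | [], s => s.isEmpty
  | (0, k, _) :: t, s => check t (s.drop k ++ s.take k)
  | (1, k, c) :: t, s => match s.drop k with
    | x :: y :: r => same (tr (word y) ++ word c) (word x) && check t (s.take k ++ y :: c :: r)
    | _ => false
  | (2, k, c) :: t, s => match s.drop k with
    | x :: y :: r => same (tr (word x) ++ word y) (word c) && check t (s.take k ++ c :: x :: r)
    | _ => false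
  | (3, k, _) :: t, s => match s.drop k with
    | x :: y :: r => same (word x) (word y) && check t (s.take k ++ r)
    | _ => false
  | (_, k, c) :: t, s => check t (s.take k ++ c :: c :: s.drop k)

/-- The number of deletions minus that of insertions. -/
def weight : List (ℕ × ℕ × ℕ) → ℤ
  | [] => 0
  | (0, _, _) :: t => weight t
  | (1, _, _) :: t => weight t
  | (2, _, _) :: t => weight t
  | (3, _, _) :: t => weight t + 1
  | _ :: t => weight t - 1

variable {E : Type u} [Group E] (σ : E →* G) (hs : Function.Surjective σ)

/-- The lift of the transposition given by a word. -/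
noncomputable def T (W : List ℕ) : E := lift σ hs W * bt σ hs * (lift σ hs W)⁻¹

/-- The product of a tuple. -/
noncomputable def prodT (s : List ℕ) : E := (s.map fun i => T σ hs (word i)).prod

/-- The common square. -/
noncomputable def zeta : E := bt σ hs * bt σ hs

theorem map_T (W : List ℕ) : σ (T σ hs W) = V (tr W) := by
  rw [T, map_mul, map_mul, map_inv, map_lift, map_bt, tr, V_append, V_append, V_reverse]

theorem map_zeta : σ (zeta σ hs) = 1 := by
  rw [zeta, map_mul, map_bt, V_single]
  exact pres.sq_val _

variable (hc : σ.ker ≤ Subgroup.center E)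
include hc

theorem T_eq {A B : List ℕ} (h : same A B = true) : T σ hs A = T σ hs B :=
  conj_bt σ hs hc (by rw [map_lift, map_lift, same_spec h])

theorem conj_T {A B C : List ℕ} (h : same (tr A ++ B) C = true) :
    T σ hs A * T σ hs B * (T σ hs A)⁻¹ = T σ hs C := by
  rw [show T σ hs A * T σ hs B * (T σ hs A)⁻¹ =
    (T σ hs A * lift σ hs B) * bt σ hs * (T σ hs A * lift σ hs B)⁻¹ by simp only [T]; group]
  exact conj_bt σ hs hc (by rw [map_mul, map_T, map_lift, map_lift, ← V_append, same_spec h])

theorem sq_T (W : List ℕ) : T σ hs W * T σ hs W = zeta σ hs := by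
  rw [show T σ hs W * T σ hs W = lift σ hs W * zeta σ hs * (lift σ hs W)⁻¹ by
    simp only [T, zeta]; group]
  rw [← (J2Mult70.central_of σ hc (map_zeta σ hs) _).eq]
  group

theorem prod_split (s : List ℕ) (k : ℕ) :
    prodT σ hs s = prodT σ hs (s.take k) * prodT σ hs (s.drop k) := by
  simp only [prodT]
  rw [← List.prod_append, ← List.map_append, List.take_append_drop]

omit hc in
theorem prodT_append (a b : List ℕ) : prodT σ hs (a ++ b) = prodT σ hs a * prodT σ hs b := by
  simp [prodT]

omit hc in
theorem prodT_cons (x : ℕ) (b : List ℕ) :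
    prodT σ hs (x :: b) = T σ hs (word x) * prodT σ hs b := by
  simp [prodT]

theorem check_spec : ∀ (t : List (ℕ × ℕ × ℕ)) (s : List ℕ), check t s = true →
    prodT σ hs s = zeta σ hs ^ weight t := by
  have hz : ∀ (n : ℤ) (w : E), Commute (zeta σ hs ^ n) w := fun n w =>
    (J2Mult70.central_of σ hc (map_zeta σ hs) w).zpow_left n
  intro t
  induction t with
  | nil => intro s h; rw [check, List.isEmpty_iff] at h; subst h; simp [prodT, weight]
  | cons e t ih =>
    obtain ⟨i, k, c⟩ := e
    intro s h
    rw [prod_split σ hs hc s k]
    match i with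
    | 0 =>
      rw [check] at h
      have := ih _ h
      rw [prodT_append] at this
      rw [show weight ((0, k, c) :: t) = weight t from rfl]
      calc prodT σ hs (s.take k) * prodT σ hs (s.drop k)
          = (prodT σ hs (s.drop k))⁻¹ * (prodT σ hs (s.drop k) * prodT σ hs (s.take k)) *
              prodT σ hs (s.drop k) := by group
        _ = zeta σ hs ^ weight t := by rw [this, mul_assoc, (hz _ _).eq]; group
    | 1 =>
      rw [check] at h
      rcases hd : s.drop k with _ | ⟨x, _ | ⟨y, r⟩⟩
      · simp [hd] at h
      · simp [hd] at h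
      simp only [hd, Bool.and_eq_true] at h
      have := ih _ h.2
      rw [prodT_append, prodT_cons, prodT_cons] at this
      rw [show weight ((1, k, c) :: t) = weight t from rfl, ← this, prodT_cons, prodT_cons,
        ← conj_T σ hs hc h.1]
      group
    | 2 =>
      rw [check] at h
      rcases hd : s.drop k with _ | ⟨x, _ | ⟨y, r⟩⟩
      · simp [hd] at h
      · simp [hd] at h
      simp only [hd, Bool.and_eq_true] at h
      have := ih _ h.2
      rw [prodT_append, prodT_cons, prodT_cons] at this
      rw [show weight ((2, k, c) :: t) = weight t from rfl, ← this, prodT_cons, prodT_cons,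
        ← conj_T σ hs hc h.1]
      group
    | 3 =>
      rw [check] at h
      rcases hd : s.drop k with _ | ⟨x, _ | ⟨y, r⟩⟩
      · simp [hd] at h
      · simp [hd] at h
      simp only [hd, Bool.and_eq_true] at h
      have := ih _ h.2
      rw [prodT_append] at this
      rw [show weight ((3, k, c) :: t) = weight t + 1 from rfl, zpow_add, zpow_one, ← this,
        prodT_cons, prodT_cons, T_eq σ hs hc h.1, ← mul_assoc (T σ hs (word y)), sq_T σ hs hc,
        mul_assoc, (J2Mult70.central_of σ hc (map_zeta σ hs) (prodT σ hs r)).eq]
    | n + 4 =>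
      rw [check] at h <;> try omega
      have := ih _ h
      rw [prodT_append, prodT_cons, prodT_cons, ← mul_assoc (T σ hs (word c)), sq_T σ hs hc,
        ← mul_assoc, ← (J2Mult70.central_of σ hc (map_zeta σ hs) (prodT σ hs (s.take k))).eq,
        mul_assoc] at this
      rw [show weight ((n + 4, k, c) :: t) = weight t - 1 from rfl, zpow_sub, zpow_one, ← this,
        ← (J2Mult70.central_of σ hc (map_zeta σ hs) _).inv_left.eq, inv_mul_cancel_left]

end Cfsg.Agent.Fi23Mult70
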