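import Cfsg.Agent.Fi23Mult70.Hurwitz
import Cfsg.Agent.PresMult70.Exp2
import Cfsg.Agent.Lib.Schur.Basic

/-!
# The Schur multiplier of `Fi23` is trivial (helper70)
-/

set_option autoImplicit false
set_option maxRecDepth 100000

namespace Cfsg.Agent.Fi23Mult70

open Cfsg.Spor Cfsg.Agent.CosetEnum Cfsg.Agent.CosetEnum.Fi23

universe u

theorem braid_step {x y : ℕ} (h : [x, y, x, y, x, y] ∈ pres.relWords) (hx : [x, x] ∈ pres.relWords)
    (hy : [y, y] ∈ pres.relWords) {W : List ℕ} (hW : V (tr W) = V [x]) :
    V (tr ([x, y] ++ W)) = V [y] := by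
  have h1 := pres.rel_val _ h
  have h2 := pres.rel_val _ hx
  have h3 := pres.rel_val _ hy
  simp only [evalWord] at h1
  simp only [evalWord, mul_one] at h2 h3
  rw [tr, show [x, y] ++ W ++ [1] ++ ([x, y] ++ W).reverse =
    [x, y] ++ tr W ++ [x, y].reverse by simp [tr, List.append_assoc], V_append, V_append, hW,
    V_reverse, V_single, V_single, ← braid h2 h3 h1]
  show pres.val x * (pres.val y * 1) * pres.val x * (pres.val x * (pres.val y * 1))⁻¹ = _
  rw [mul_one]

theorem gen_word (l : ℕ) (hl : l < 10) : V (tr (word l)) = V [l] := by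
  have h1 : V (tr []) = V [1] := rfl
  have h0 := braid_step (x := 1) (y := 0) (by decide +kernel) (by decide +kernel) (by decide +kernel) h1
  have h2 := braid_step (x := 1) (y := 2) (by decide +kernel) (by decide +kernel) (by decide +kernel) h1
  have h3 := braid_step (x := 2) (y := 3) (by decide +kernel) (by decide +kernel) (by decide +kernel) h2
  have h4 := braid_step (x := 3) (y := 4) (by decide +kernel) (by decide +kernel) (by decide +kernel) h3
  have h5 := braid_step (x := 4) (y := 5) (by decide +kernel) (by decide +kernel) (by decide +kernel) h4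
  have h6 := braid_step (x := 5) (y := 6) (by decide +kernel) (by decide +kernel) (by decide +kernel) h5
  have h7 := braid_step (x := 6) (y := 7) (by decide +kernel) (by decide +kernel) (by decide +kernel) h6
  have h8 := braid_step (x := 3) (y := 8) (by decide +kernel) (by decide +kernel) (by decide +kernel) h3
  have h9 := braid_step (x := 8) (y := 9) (by decide +kernel) (by decide +kernel) (by decide +kernel) h8
  interval_cases l
  exacts [h0, h1, h2, h3, h4, h5, h6, h7, h8, h9]

/-- The tuples of the two extra relators. -/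
def base1 : List ℕ := [3, 2, 1, 3, 4, 5, 3, 8, 9]

/-- See `base1`. -/
def base2 : List ℕ := [0, 1, 2, 3, 4, 5, 8]

theorem check_one : check Data.steps1 (repWord base1 10) = true := by decide +kernel

theorem check_two : check Data.steps2 (repWord base2 9 ++ repWord base2 9) = true := by decide +kernel

theorem weight_one : weight Data.steps1 = 45 := by decide +kernel

theorem weight_two : weight Data.steps2 = 63 := by decide +kernel

/-- The pairs of commuting and of braiding generators are seen on the points. -/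
noncomputable def coxOK : Bool :=
  (List.range 10).all fun x => (List.range 10).all fun y =>
    if (x, y) ∈ [(0, 1), (1, 2), (2, 3), (3, 4), (3, 8), (4, 5), (5, 6), (6, 7), (8, 9),
        (1, 0), (2, 1), (3, 2), (4, 3), (8, 3), (5, 4), (6, 5), (7, 6), (9, 8)] then
      same (tr (word x) ++ word y) (tr (word y) ++ word x)
    else same (tr (word x) ++ word y) (word y)

theorem cox_ok : coxOK = true := by decide +kernel

variable {E : Type u} [Group E] (σ : E →* G)

theorem exists_gens (hs : Function.Surjective σ) (hc : σ.ker ≤ Subgroup.center E) :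
    ∃ g : ℕ → E, (∀ l < 10, σ (g l) = V [l]) ∧ (∀ l, g l * g l = 1) ∧
      (∀ x < 10, ∀ y < 10, if (x, y) ∈ [(0, 1), (1, 2), (2, 3), (3, 4), (3, 8), (4, 5), (5, 6),
          (6, 7), (8, 9), (1, 0), (2, 1), (3, 2), (4, 3), (8, 3), (5, 4), (6, 5), (7, 6), (9, 8)]
        then (g x * g y) ^ 3 = 1 else (g x * g y) ^ 2 = 1) ∧
      (base1.map g).prod ^ 10 = 1 ∧ (base2.map g).prod ^ 9 = 1 := by
  set ζ := zeta σ hs with hζ
  have hζ1 : σ ζ = 1 := map_zeta σ hs
  have hσT : ∀ l < 10, σ (T σ hs (word l)) = V [l] := fun l hl => by rw [map_T, gen_word l hl]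
  have hrep : ∀ (B : List ℕ) (n : ℕ), prodT σ hs (repWord B n) = prodT σ hs B ^ n := by
    intro B n
    induction n with
    | zero => simp [repWord, prodT]
    | succ n ih => rw [repWord, prodT_append, ih, ← pow_succ']
  have hk2 : prodT σ hs base2 ^ 9 * prodT σ hs base2 ^ 9 = ζ ^ (63 : ℕ) := by
    rw [← hrep, ← prodT_append, check_spec σ hs hc _ _ check_two, weight_two]; norm_cast
  have hk1 : prodT σ hs base1 ^ 10 = ζ ^ (45 : ℕ) := by
    rw [← hrep, check_spec σ hs hc _ _ check_one, weight_one]; norm_cast
  set k := prodT σ hs base2 ^ 9 with hk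
  have hσk : σ k = 1 := by
    have hr := pres.rel_val (repWord base2 9) (List.mem_append_right _ (by decide +kernel))
    rw [evalWord_repWord] at hr
    rw [hk, map_pow, ← hr]
    refine congrArg (· ^ 9) ?_
    simp only [base2, prodT, List.map_cons, List.map_nil, List.prod_cons, List.prod_nil, mul_one,
      map_mul, evalWord]
    simp only [hσT 0 (by norm_num), hσT 1 (by norm_num), hσT 2 (by norm_num), hσT 3 (by norm_num),
      hσT 4 (by norm_num), hσT 5 (by norm_num), hσT 8 (by norm_num), V_single]
  set m := ζ ^ 31 * k⁻¹ with hm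
  have hσm : σ m = 1 := by simp [hm, hζ1, hσk]
  have cm : ∀ w, Commute m w := J2Mult70.central_of σ hc hσm
  have cz : ∀ w, Commute ζ w := J2Mult70.central_of σ hc hζ1
  have hm2 : ζ * (m * m) = 1 := by
    have e : m * m = ζ ^ 62 * (k * k)⁻¹ := by
      rw [hm]
      calc ζ ^ 31 * k⁻¹ * (ζ ^ 31 * k⁻¹) = ζ ^ 31 * (k⁻¹ * ζ ^ 31) * k⁻¹ := by group
        _ = ζ ^ 31 * (ζ ^ 31 * k⁻¹) * k⁻¹ := by rw [((cz k).pow_left 31).inv_right.eq]
        _ = _ := by group
    rw [e, hk2]; group
  let g : ℕ → E := fun l => T σ hs (word l) * m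
  have hgg : ∀ l, g l * g l = 1 := fun l => by
    show T σ hs (word l) * m * (T σ hs (word l) * m) = 1
    rw [(cm _).mul_mul_mul_comm _ m, sq_T σ hs hc]
    exact hm2
  have hconj : ∀ x y c, same (tr (word x) ++ word y) c = true →
      g x * g y * (g x)⁻¹ = T σ hs c * m := by
    intro x y c h
    show T σ hs (word x) * m * (T σ hs (word y) * m) * (T σ hs (word x) * m)⁻¹ = _
    rw [← conj_T σ hs hc h]
    calc T σ hs (word x) * m * (T σ hs (word y) * m) * (T σ hs (word x) * m)⁻¹
        = T σ hs (word x) * (m * T σ hs (word y)) * (T σ hs (word x))⁻¹ := by group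
      _ = T σ hs (word x) * T σ hs (word y) * (m * (T σ hs (word x))⁻¹) := by
          rw [(cm (T σ hs (word y))).eq]; group
      _ = _ := by rw [(cm (T σ hs (word x))⁻¹).eq]; group
  have hpow : ∀ (B : List ℕ) , (B.map g).prod = prodT σ hs B * m ^ B.length := by
    intro B
    induction B with
    | nil => simp [prodT]
    | cons a B ih =>
      rw [List.map_cons, List.prod_cons, ih, prodT_cons, List.length_cons, pow_succ']
      show T σ hs (word a) * m * (prodT σ hs B * m ^ B.length) = _
      rw [(cm _).mul_mul_mul_comm _ (m ^ B.length)]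
  refine ⟨g, fun l hl => ?_, hgg, fun x hx y hy => ?_, ?_, ?_⟩
  · show σ (T σ hs (word l) * m) = V [l]
    rw [map_mul, hσm, mul_one, hσT l hl]
  · have h := List.all_eq_true.mp (List.all_eq_true.mp cox_ok x (List.mem_range.mpr hx)) y
      (List.mem_range.mpr hy)
    have hi : ∀ l, (g l)⁻¹ = g l := fun l => inv_eq_of_mul_eq_one_right (hgg l)
    split_ifs with he
    · rw [if_pos he] at h
      have e : g x * g y * g x = g y * g x * g y := by
        have h1 := hconj x y (tr (word y) ++ word x) (by
          rw [same, Bool.and_eq_true, Bool.and_eq_true] at h ⊢; exact h)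
        have h2 := hconj y x (tr (word y) ++ word x) (by
          rw [same, Bool.and_eq_true, Bool.and_eq_true] at h ⊢
          exact ⟨⟨h.1.2, h.1.2⟩, Nat.beq_refl _⟩)
        rw [hi] at h1 h2
        exact h1.trans h2.symm
      calc (g x * g y) ^ 3 = (g x * g y * g x) * (g y * g x * g y) := by
            simp only [pow_succ, pow_zero, one_mul, mul_assoc]
        _ = (g x * g y * g x) * (g x * g y * g x) := by rw [e]
        _ = g x * g y * (g x * g x) * g y * g x := by group
        _ = g x * (g y * g y) * g x := by rw [hgg]; group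
        _ = 1 := by rw [hgg, mul_one, hgg]
    · rw [if_neg he] at h
      have h1 := hconj x y (word y) h
      rw [hi] at h1
      calc (g x * g y) ^ 2 = (g x * g y * g x) * g y := by simp only [sq, mul_assoc]
        _ = g y * g y := by rw [h1]
        _ = 1 := hgg y
  · rw [hpow, ((cm _).pow_left _).symm.mul_pow, hk1, ← pow_mul,
      show base1.length * 10 = 45 * 2 from rfl, mul_comm 45 2, pow_mul, sq]
    rw [← (cz (m * m)).mul_pow, hm2, one_pow]
  · rw [hpow, ((cm _).pow_left _).symm.mul_pow, ← hk, ← pow_mul,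
      show base2.length * 9 = 2 * 31 + 1 from rfl, pow_succ, pow_mul, sq,
      eq_inv_of_mul_eq_one_right hm2, inv_pow, hm, inv_mul_cancel_left, mul_inv_cancel]

theorem V_single' (x : Cfsg.Spor.Fi23.Gen) (l : ℕ) (h : genList[l]? = some x) :
    V [l] = (PresentedGroup.of x : G) := by
  show pres.val l * 1 = _
  rw [mul_one]
  show letterVal genList _ l = _
  simp [letterVal, h]

theorem ker_eq_bot (hσ : Cfsg.IsStemExtension σ) : σ.ker = ⊥ := by
  obtain ⟨g, hg, hgg, hcox, h10, h9⟩ := exists_gens σ hσ.1 hσ.2.1
  let idx : Cfsg.Spor.Fi23.Gen → ℕ := fun x => match x with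
    | .a => 0 | .b => 1 | .c => 2 | .d => 3 | .e => 4 | .f => 5 | .g => 6 | .j => 7 | .h => 8
    | .i => 9
  have hidx : ∀ x, idx x < 10 ∧ genList[idx x]? = some x := fun x => by cases x <;> decide
  let v : Cfsg.Spor.Fi23.Gen → E := fun x => g (idx x)
  have hrel : ∀ r ∈ coxRelators pres.edges ∪ {r | r ∈ pres.extra}, FreeGroup.lift v r = 1 := by
    rintro r (⟨x, -, y, -, rfl⟩ | hr)
    · rw [map_pow, map_mul, FreeGroup.lift_apply_of, FreeGroup.lift_apply_of]
      show (g (idx x) * g (idx y)) ^ _ = 1
      rcases eq_or_ne x y with rfl | hxy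
      · rw [hgg, one_pow]
      · have h := hcox _ (hidx x).1 _ (hidx y).1
        cases x <;> cases y <;> first
          | exact absurd rfl hxy
          | simpa [idx, coxLabel, pres, Cfsg.Spor.Fi23.edges] using h
    · change r ∈ Cfsg.Spor.Fi23.extra at hr
      simp only [Cfsg.Spor.Fi23.extra, List.mem_cons, List.not_mem_nil, or_false] at hr
      rcases hr with rfl | rfl
      · simpa [v, idx, base1, mul_assoc] using h10
      · simpa [v, idx, base2, mul_assoc] using h9
  let φ : G →* E := PresentedGroup.toGroup hrel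
  have hsec : σ.comp φ = MonoidHom.id G := by
    refine PresentedGroup.ext fun x => ?_
    rw [MonoidHom.comp_apply, PresentedGroup.toGroup.of, MonoidHom.id_apply]
    exact (hg _ (hidx x).1).trans (V_single' _ _ (hidx x).2)
  exact PresMult70.ker_eq_bot_of_section σ hσ φ fun x => DFunLike.congr_fun hsec x

theorem multiplier : Cfsg.HasCyclicSchurMultiplier Cfsg.Spor.Fi23 1 := by
  haveI : Finite Cfsg.Spor.Fi23 := Fi23.finite
  exact Cfsg.Agent.Schur.hasCyclicSchurMultiplier_one_of_forall fun Γ _ _ σ hσ => ker_eq_bot σ hσ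

end Cfsg.Agent.Fi23Mult70
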